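import Groth.Agent.InvDesc21.Main
import Groth.Agent.Lib.ASBun21.IndecInv

/-!
# Split modules with invariant summands are isotypical
-/

set_option autoImplicit false
set_option linter.style.haveILetI false
set_option backward.isDefEq.respectTransparency false
set_option maxHeartbeats 1000000

universe u

open CategoryTheory CategoryTheory.Limits AlgebraicGeometry GrothLib GrothLib.ASBun21

noncomputable section

namespace Groth.Agent.InvDesc21

attribute [local instance] Abelian.hasFiniteBiproducts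

variable {k : Type u} [Field k] {X : Scheme.{u}} (p : X ⟶ Spec (CommRingCat.of k)) [IsProper p]
  (K : Type u) [Field K] [Algebra k K] [IsSepClosure k K]

theorem exists_isotypical {E : X.Modules} (hE : FlatMod.IsFinLocFree E) (hEi : Indec E) {s : ℕ}
    {Ls : Fin s → (BrSev.bc p K).Modules} (hLs : ∀ i, FlatMod.IsFinLocFree (Ls i)) (hLi : ∀ i, Indec (Ls i))
    (hinv : ∀ (σ : K ≃ₐ[k] K) (i : Fin s),
      Nonempty ((Scheme.Modules.pullback (W4c1astiltbs12.galAct p K σ)).obj (Ls i) ≅ Ls i))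
    (hsplit : BrSev.bcMod p K E ≅ ∐ Ls) :
    ∃ (i : Fin s) (r : ℕ), 0 < r ∧ Nonempty (BrSev.bcMod p K E ≅ ∐ fun _ : Fin r => Ls i) := by
  classical
  haveI : Algebra.IsSeparable k K := IsSepClosure.separable
  letI : X.Over (Spec (CommRingCat.of k)) := ⟨p⟩
  haveI : IsProper (X ↘ Spec (CommRingCat.of k)) := ‹IsProper p›
  haveI := Euler.isNoetherian_of_proper (X := X) k
  choose W r hWf hWi hr hWt using fun i => exists_indec_type p K (Ls i) (hLs i) (hLi i) fun σ => hinv σ i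
  let N := ∏ i, r i
  have hN : 0 < N := Finset.prod_pos fun i _ => hr i
  choose m hm using fun i => (Finset.dvd_prod_of_mem r (Finset.mem_univ i) : r i ∣ N)
  let J := Σ i : Fin s, Fin (m i)
  let σ : Fin (Fintype.card J) ≃ J := (Fintype.equivFin J).symm
  let E₂ : X.Modules := ∐ fun x : Fin (Fintype.card J) => W (σ x).1
  let E₁ : X.Modules := ∐ fun _ : Fin N => E
  have h₁ : FlatMod.IsFinLocFree E₁ := OX.isFinLocFree_sigma _ fun _ => hE
  have h₂ : FlatMod.IsFinLocFree E₂ := OX.isFinLocFree_sigma _ fun _ => hWf _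
  let Φ := Scheme.Modules.pullback (BrSev.proj p K)
  haveI : PreservesColimitsOfSize.{0, 0} Φ := preservesColimitsOfSize_shrink.{0, u, 0, u} _
  let c₁ : BrSev.bcMod p K E₁ ≅ ∐ fun x : Σ _ : Fin N, Fin s => Ls x.2 :=
    PreservesCoproduct.iso Φ _ ≪≫ Sigma.mapIso (fun _ => hsplit) ≪≫
      sigmaSigmaIso (fun _ : Fin N => Fin s) (fun _ i => Ls i)
  let c₂ : BrSev.bcMod p K E₂ ≅ ∐ fun x : Σ y : Fin (Fintype.card J), Fin (r (σ y).1) => Ls (σ x.1).1 :=
    PreservesCoproduct.iso Φ _ ≪≫ Sigma.mapIso (fun y => (hWt (σ y).1).some) ≪≫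
      sigmaSigmaIso (fun y : Fin (Fintype.card J) => Fin (r (σ y).1)) (fun y _ => Ls (σ y).1)
  let q : (Σ y : Fin (Fintype.card J), Fin (r (σ y).1)) ≃ Σ _ : Fin N, Fin s :=
    (Equiv.sigmaCongrLeft (β := fun x : J => Fin (r x.1)) σ).trans <|
      (Equiv.sigmaAssoc fun i (_ : Fin (m i)) => Fin (r i)).trans <|
        (Equiv.sigmaCongrRight fun i => (Equiv.sigmaEquivProd _ _).trans
          (finProdFinEquiv.trans (finCongr (show m i * r i = N from (mul_comm _ _).trans (hm i).symm)))).trans <|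
        (Equiv.sigmaEquivProd (Fin s) (Fin N)).trans <| (Equiv.prodComm _ _).trans (Equiv.sigmaEquivProd _ _).symm
  have hq : ∀ x, (q x).2 = (σ x.1).1 := fun x => rfl
  obtain ⟨i₁₂⟩ := nonempty_iso_of_bc p K (Euler.isCoh_of_isFinLocFree h₁) (Euler.isCoh_of_isFinLocFree h₂)
    (c₁ ≪≫ (Sigma.whiskerEquiv q fun x => eqToIso (by rw [hq x])).symm ≪≫ c₂.symm)
  obtain ⟨n₁⟩ := nonempty_pow_npow E N
  obtain ⟨n₃⟩ := nonempty_coprod_lsum fun x : Fin (Fintype.card J) => W (σ x).1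
  have hEc := Euler.isCoh_of_isFinLocFree hE
  haveI := finite_hom k hEc hEc
  have hp := map_cls_perm k (List.replicate N E) (List.ofFn fun x : Fin (Fintype.card J) => W (σ x).1)
    (fun b hb => mem_replicate_of_mem hb ▸ hEi)
    (fun b hb => mem_replicate_of_mem hb ▸ finite_hom k hEc hEc)
    (fun b hb => by
      obtain ⟨x, rfl⟩ := List.mem_ofFn.1 hb
      exact hWi _)
    ⟨n₁.symm ≪≫ i₁₂ ≪≫ n₃⟩
  have hmem : cls E ∈ (List.ofFn fun x : Fin (Fintype.card J) => W (σ x).1).map cls :=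
    hp.mem_iff.1 (List.mem_map.2 ⟨E, List.mem_replicate.2 ⟨hN.ne', rfl⟩, rfl⟩)
  obtain ⟨b, hb, hba⟩ := List.mem_map.1 hmem
  obtain ⟨x, rfl⟩ := List.mem_ofFn.1 hb
  obtain ⟨φ⟩ := cls_eq.1 hba.symm
  exact ⟨_, _, hr (σ x).1, ⟨Φ.mapIso φ ≪≫ (hWt (σ x).1).some⟩⟩

theorem nonempty_iso_of_pow {L L' : (BrSev.bc p K).Modules} (hLf : FlatMod.IsFinLocFree L) (hL : Indec L)
    (hL' : Indec L') {r r' : ℕ} (hr : r ≠ 0) (a : (∐ fun _ : Fin r => L) ≅ ∐ fun _ : Fin r' => L') :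
    Nonempty (L' ≅ L) := by
  letI := overBC p K
  haveI : IsProper ((BrSev.bc p K) ↘ Spec (CommRingCat.of K)) :=
    MorphismProperty.pullback_snd p _ ‹IsProper p›
  haveI := Euler.isNoetherian_of_proper (X := BrSev.bc p K) K
  have hc := Euler.isCoh_of_isFinLocFree hLf
  haveI := finite_hom K hc hc
  obtain ⟨n⟩ := nonempty_pow_npow L r
  obtain ⟨n'⟩ := nonempty_pow_npow L' r'
  obtain ⟨φ⟩ := nonempty_iso_of_npow_npow K hL hL' hr ⟨n.symm ≪≫ a ≪≫ n'⟩
  exact ⟨φ.symm⟩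

end Groth.Agent.InvDesc21
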