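import Mathlib.FieldTheory.IsSepClosed
import Mathlib.FieldTheory.PrimitiveElement
import Mathlib.FieldTheory.Fixed
import Mathlib.LinearAlgebra.Dual.Lemmas
import Mathlib.RingTheory.TensorProduct.Free
import Mathlib.AlgebraicGeometry.Limits

/-!
# Splitting a finite separable extension over a separable closure
-/

set_option autoImplicit false
set_option backward.isDefEq.respectTransparency false

universe u

open CategoryTheory CategoryTheory.Limits AlgebraicGeometry
open scoped TensorProduct

namespace Groth.Agent.InvDesc21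

variable {k : Type u} [Field k] {K : Type u} [Field K] [Algebra k K] [IsSepClosed K]
  (S : Type u) [Field S] [Algebra k S] [FiniteDimensional k S] [Algebra.IsSeparable k S]

variable (k K) in
/-- The evaluations at all the embeddings. -/
noncomputable def evPi : K ⊗[k] S →ₐ[K] ((S →ₐ[k] K) → K) :=
  Pi.algHom K (fun _ => K) fun σ => Algebra.TensorProduct.lift (AlgHom.id K K) σ fun _ _ => Commute.all _ _

omit [IsSepClosed K] [Algebra.IsSeparable k S] [FiniteDimensional k S] in
theorem evPi_tmul (a : K) (x : S) (σ : S →ₐ[k] K) : evPi k K S (a ⊗ₜ x) σ = a * σ x := by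
  simp [evPi]

theorem evPi_bijective : Function.Bijective (evPi k K S) := by
  classical
  have hcard : Module.finrank K ((S →ₐ[k] K) → K) = Module.finrank K (K ⊗[k] S) := by
    rw [Module.finrank_fintype_fun_eq_card, Module.finrank_baseChange, AlgHom.card_of_splits k S K fun x =>
      IsSepClosed.splits_of_separable _ (Polynomial.Separable.map (Algebra.IsSeparable.isSeparable k x))]
  have hsurj : Function.Surjective (evPi k K S).toLinearMap := by
    rw [← LinearMap.range_eq_top]
    by_contra hne
    obtain ⟨φ, hφ0, hφ⟩ := Submodule.exists_dual_map_eq_bot_of_lt_top (lt_top_iff_ne_top.mpr hne) inferInstance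
    refine hφ0 ?_
    have hc := linearIndependent_toLinearMap k S K
    rw [Fintype.linearIndependent_iff] at hc
    have hcσ : ∀ σ, φ (Pi.single σ 1) = 0 := hc (fun σ => φ (Pi.single σ 1)) (LinearMap.ext fun x => by
      have h1 : φ (evPi k K S (1 ⊗ₜ x)) = 0 := by
        have : φ (evPi k K S (1 ⊗ₜ x)) ∈ (LinearMap.range (evPi k K S).toLinearMap).map φ :=
          ⟨_, ⟨1 ⊗ₜ x, rfl⟩, rfl⟩
        rwa [hφ, Submodule.mem_bot] at this
      rw [show evPi k K S (1 ⊗ₜ x) = ∑ σ, (σ x) • (Pi.single σ (1 : K) : (S →ₐ[k] K) → K) from by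
        ext τ; simp [evPi_tmul, Pi.single_apply], map_sum] at h1
      simpa [mul_comm] using h1)
    refine LinearMap.pi_ext fun σ a => ?_
    rw [show (Pi.single σ a : (S →ₐ[k] K) → K) = a • Pi.single σ 1 by ext τ; simp [Pi.single_apply],
      map_smul, hcσ σ, smul_zero, LinearMap.zero_apply]
  exact ⟨(LinearMap.injective_iff_surjective_of_finrank_eq_finrank hcard.symm).mpr hsurj, hsurj⟩

variable (k K) in
/-- The point of an embedding. -/
noncomputable def evPt (σ : S →ₐ[k] K) : Spec (CommRingCat.of K) ⟶ Spec (CommRingCat.of (K ⊗[k] S)) :=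
  Spec.map (CommRingCat.ofHom ((Pi.evalRingHom (fun _ : S →ₐ[k] K => K) σ).comp (evPi k K S).toRingHom))

omit [IsSepClosed K] [Algebra.IsSeparable k S] [FiniteDimensional k S] in
theorem evPt_left (σ : S →ₐ[k] K) :
    evPt k K S σ ≫ Spec.map (CommRingCat.ofHom (algebraMap K (K ⊗[k] S))) = 𝟙 _ := by
  rw [evPt, ← Spec.map_comp, ← Spec.map_id]
  refine congrArg Spec.map (CommRingCat.hom_ext (RingHom.ext fun a => ?_))
  show evPi k K S (algebraMap K (K ⊗[k] S) a) σ = a
  rw [AlgHom.commutes]; rfl

omit [IsSepClosed K] [Algebra.IsSeparable k S] [FiniteDimensional k S] in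
theorem evPt_right (σ : S →ₐ[k] K) :
    evPt k K S σ ≫ Spec.map (CommRingCat.ofHom (Algebra.TensorProduct.includeRight : S →ₐ[k] K ⊗[k] S).toRingHom) =
      Spec.map (CommRingCat.ofHom σ.toRingHom) := by
  rw [evPt, ← Spec.map_comp]
  refine congrArg Spec.map (CommRingCat.hom_ext (RingHom.ext fun a => ?_))
  show evPi k K S (1 ⊗ₜ a) σ = σ a
  rw [evPi_tmul, one_mul]

/-- The points of the embeddings form a disjoint open cover. -/
theorem evPt_cover :
    (∀ σ, IsOpenImmersion (evPt k K S σ)) ∧
    (∀ σ τ, σ ≠ τ → Disjoint (Set.range (evPt k K S σ).base) (Set.range (evPt k K S τ).base)) ∧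
    ∀ z, ∃ σ, z ∈ Set.range (evPt k K S σ).base := by
  classical
  let E := RingEquiv.ofBijective (evPi k K S).toRingHom (evPi_bijective S)
  refine ⟨fun σ => ?_, fun σ τ hne => Set.disjoint_left.2 ?_, fun z => ?_⟩
  · haveI : IsIso (CommRingCat.ofHom (evPi k K S).toRingHom) :=
      inferInstanceAs (IsIso E.toCommRingCatIso.hom)
    rw [evPt, CommRingCat.ofHom_comp, Spec.map_comp]
    have h1 : IsOpenImmersion (Spec.map (CommRingCat.ofHom (Pi.evalRingHom (fun _ : S →ₐ[k] K => K) σ))) := by
      have h := AlgebraicGeometry.ι_sigmaSpec (fun _ : S →ₐ[k] K => CommRingCat.of K) σ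
      rw [← h]
      infer_instance
    infer_instance
  · rintro z ⟨a, rfl⟩ ⟨b, hb⟩
    have h := congrArg PrimeSpectrum.asIdeal hb
    let x := E.symm (Pi.single σ 1)
    have hx : evPi k K S x = Pi.single σ 1 := E.apply_symm_apply _
    have ha : x ∉ ((evPt k K S σ).base a).asIdeal := fun hm => by
      have : evPi k K S x σ ∈ a.asIdeal := hm
      rw [hx, Pi.single_eq_same] at this
      exact a.2.ne_top ((Ideal.eq_top_iff_one _).2 this)
    refine ha (h ▸ ?_)
    show evPi k K S x τ ∈ b.asIdeal
    rw [hx, Pi.single_eq_of_ne (Ne.symm hne)]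
    exact zero_mem _
  · have h1 : ∑ σ, E.symm (Pi.single σ 1) = 1 := by
      rw [← map_sum, Finset.univ_sum_single]; exact map_one _
    obtain ⟨σ, hσ⟩ : ∃ σ, E.symm (Pi.single σ 1) ∉ z.asIdeal := by
      by_contra hc
      push Not at hc
      exact z.2.ne_top ((Ideal.eq_top_iff_one _).2 (h1 ▸ sum_mem fun σ _ => hc σ))
    refine ⟨σ, (⟨⊥, Ideal.isPrime_bot⟩ : PrimeSpectrum K), ?_⟩
    have hle : RingHom.ker ((Pi.evalRingHom (fun _ : S →ₐ[k] K => K) σ).comp (evPi k K S).toRingHom) ≤ z.asIdeal :=
      fun y hy => (z.2.mem_or_mem (show E.symm (Pi.single σ 1) * y ∈ z.asIdeal from by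
        have h0 : E.symm (Pi.single σ 1) * y = 0 := E.injective (by
          rw [map_mul, E.apply_symm_apply, map_zero]
          funext τ
          by_cases ht : τ = σ
          · subst ht; simp only [Pi.mul_apply, Pi.single_eq_same, one_mul, Pi.zero_apply]; exact hy
          · simp [Pi.single_eq_of_ne ht])
        rw [h0]; exact zero_mem _)).resolve_left hσ
    have hmax : (RingHom.ker ((Pi.evalRingHom (fun _ : S →ₐ[k] K => K) σ).comp (evPi k K S).toRingHom)).IsMaximal :=
      RingHom.ker_isMaximal_of_surjective _ fun c =>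
        ⟨algebraMap K _ c, by
          show evPi k K S (algebraMap K _ c) σ = c
          rw [AlgHom.commutes]; rfl⟩
    exact PrimeSpectrum.ext (hmax.eq_of_le z.2.ne_top hle)

end Groth.Agent.InvDesc21
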