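import Groth.Agent.InvDesc21.PiecePush
import Groth.Agent.Lib.ASBun21.Existence
import Groth.Agent.InvDesc21.Split
import Groth.Agent.Lib.ASBun21.Summands
import Groth.Agent.Lib.ASBun21.Stage
import Groth.Agent.Lib.ASBun21.PushFree
import Groth.Agent.Lib.ASBun21.Descent
import Groth.Agent.Lib.FlatBC.Push
import Groth.Prelude.Def_W4c1astiltbs12AS

/-!
# Galois invariant classes are types of modules over the ground field
-/

set_option autoImplicit false
set_option linter.style.haveILetI false
set_option backward.isDefEq.respectTransparency false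
set_option maxHeartbeats 1000000

universe u

open CategoryTheory CategoryTheory.Limits AlgebraicGeometry GrothLib GrothLib.ASBun21
open scoped TensorProduct

noncomputable section

namespace Groth.Agent.InvDesc21

variable {k : Type u} [Field k] {X : Scheme.{u}} (p : X ⟶ Spec (CommRingCat.of k)) [IsProper p]
  (K : Type u) [Field K] [Algebra k K] [IsSepClosure k K]

omit [IsProper p] [IsSepClosure k K] in
theorem galAct_proj (τ : K ≃ₐ[k] K) : W4c1astiltbs12.galAct p K τ ≫ BrSev.proj p K = BrSev.proj p K := by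
  simp [W4c1astiltbs12.galAct, BrSev.proj]

omit [IsProper p] [IsSepClosure k K] in
theorem galAct_bcTo (τ : K ≃ₐ[k] K) :
    W4c1astiltbs12.galAct p K τ ≫ BrSev.bcTo p K = BrSev.bcTo p K ≫ Spec.map (CommRingCat.ofHom (τ : K →+* K)) :=
  pullback.lift_snd _ _ _

/-- A Galois invariant class is the type of a module over the ground field. -/
theorem exists_type (W : (BrSev.bc p K).Modules) (hW : FlatMod.IsFinLocFree W)
    (hinv : ∀ σ : K ≃ₐ[k] K, Nonempty ((Scheme.Modules.pullback (W4c1astiltbs12.galAct p K σ)).obj W ≅ W)) :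
    ∃ (M : X.Modules) (d : ℕ), FlatMod.IsFinLocFree M ∧ 0 < d ∧
      Nonempty (BrSev.bcMod p K M ≅ ∐ fun _ : Fin d => W) := by
  haveI : IsSepClosed K := IsSepClosure.sep_closed k
  haveI : Algebra.IsSeparable k K := IsSepClosure.separable
  haveI : IsGalois k K := IsSepClosure.isGalois
  letI : X.Over (Spec (CommRingCat.of k)) := ⟨p⟩
  haveI : IsProper (X ↘ Spec (CommRingCat.of k)) := ‹IsProper p›
  haveI := Euler.isNoetherian_of_proper (X := X) k
  letI := overBC p K
  haveI : IsProper ((BrSev.bc p K) ↘ Spec (CommRingCat.of K)) := MorphismProperty.pullback_snd p _ ‹IsProper p›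
  haveI := Euler.isNoetherian_of_proper (X := BrSev.bc p K) K
  have hWc := Euler.isCoh_of_isFinLocFree hW
  haveI := hWc.1
  obtain ⟨S, hS, Y, g, q, π', G, hY, hπg, hπq, hG, ⟨φG⟩⟩ := exists_stage_module p K W
    (LocFree8.isFP_of_isFinLocFree _ hW)
  haveI := hG.1
  haveI : Algebra.IsIntegral k S := Algebra.IsIntegral.of_finite k S
  letI : Field S := (isField_of_isIntegral_of_isField' (R := k) (S := S) (Field.toIsField k)).toField
  haveI : Algebra.IsSeparable k S := Algebra.IsSeparable.of_algHom k K S.val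
  haveI : IsFinite (Spec.map (CommRingCat.ofHom (algebraMap k S))) :=
    (IsFinite.SpecMap_iff _).2 (RingHom.finite_algebraMap.2 inferInstance)
  haveI : IsFinite g := MorphismProperty.of_isPullback hY.flip inferInstance
  have hX : IsPullback (BrSev.proj p K) (BrSev.bcTo p K) p (Spec.map (CommRingCat.ofHom (algebraMap k K))) :=
    IsPullback.of_hasPullback _ _
  let R := K ⊗[k] S
  let sL : Spec (CommRingCat.of R) ⟶ Spec (CommRingCat.of K) :=
    Spec.map (CommRingCat.ofHom (algebraMap K R))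
  let sR : Spec (CommRingCat.of R) ⟶ Spec (CommRingCat.of S) :=
    Spec.map (CommRingCat.ofHom (Algebra.TensorProduct.includeRight : S →ₐ[k] R).toRingHom)
  have hsq : sR ≫ Spec.map (CommRingCat.ofHom (algebraMap k S)) =
      sL ≫ Spec.map (CommRingCat.ofHom (algebraMap k K)) := by
    refine (Spec.map_comp _ _).symm.trans (Eq.trans (congrArg Spec.map (CommRingCat.hom_ext (RingHom.ext fun x => ?_)))
      (Spec.map_comp _ _))
    show (Algebra.TensorProduct.includeRight : S →ₐ[k] R) (algebraMap k S x) = algebraMap K R (algebraMap k K x)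
    rw [AlgHom.commutes, ← IsScalarTower.algebraMap_apply]
  let P := pullback (BrSev.bcTo p K) sL
  let g' : P ⟶ BrSev.bc p K := pullback.fst _ _
  let θ : P ⟶ Spec (CommRingCat.of R) := pullback.snd _ _
  have hP : IsPullback g' θ (BrSev.bcTo p K) sL := IsPullback.of_hasPullback _ _
  let π'' : P ⟶ Y := hY.lift (g' ≫ BrSev.proj p K) (θ ≫ sR) (by
    rw [Category.assoc, hX.w, ← Category.assoc, hP.w, Category.assoc, Category.assoc, hsq])
  have hπ''g : π'' ≫ g = g' ≫ BrSev.proj p K := hY.lift_fst _ _ _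
  have hπ''q : π'' ≫ q = θ ≫ sR := hY.lift_snd _ _ _
  have hR : IsPullback sL sR (Spec.map (CommRingCat.ofHom (algebraMap k K)))
      (Spec.map (CommRingCat.ofHom (algebraMap k S))) := isPullback_SpecMap_of_isPushout _ _ _ _
    (CommRingCat.isPushout_tensorProduct k K S)
  have hbig : IsPullback g' (π'' ≫ q) (BrSev.proj p K ≫ p) (Spec.map (CommRingCat.ofHom (algebraMap k S))) := by
    rw [hX.w, hπ''q]
    exact hP.paste_vert hR
  have hBC : IsPullback g' π'' (BrSev.proj p K) g := IsPullback.of_bot hbig hπ''g.symm hY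
  -- the pieces
  let d := Fintype.card (S →ₐ[k] K)
  let en : Fin d ≃ (S →ₐ[k] K) := (Fintype.equivFin _).symm
  obtain ⟨hopen, hdisj, hcov⟩ := evPt_cover (k := k) (K := K) S
  let s : Fin d → (BrSev.bc p K ⟶ P) := fun i => pullback.lift (𝟙 _) (BrSev.bcTo p K ≫ evPt k K S (en i)) (by
    rw [Category.id_comp, Category.assoc]
    exact (Category.comp_id _).symm.trans (congrArg (_ ≫ ·) (evPt_left S (en i)).symm))
  have hsg : ∀ i, s i ≫ g' = 𝟙 _ := fun i => pullback.lift_fst _ _ _
  have hsθ : ∀ i, s i ≫ θ = BrSev.bcTo p K ≫ evPt k K S (en i) := fun i => pullback.lift_snd _ _ _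
  have hsP : ∀ i, IsPullback (s i) (BrSev.bcTo p K) θ (evPt k K S (en i)) := fun i => by
    refine IsPullback.of_right ?_ (hsθ i) hP
    rw [hsg i, evPt_left S (en i)]
    exact IsPullback.of_horiz_isIso ⟨by simp⟩
  haveI : ∀ i, IsOpenImmersion (s i) := fun i => MorphismProperty.of_isPullback (hsP i).flip (hopen (en i))
  have hrange : ∀ i z, z ∈ Set.range (s i).base ↔ θ z ∈ Set.range (evPt k K S (en i)).base := fun i z => by
    constructor
    · rintro ⟨y, rfl⟩
      exact ⟨BrSev.bcTo p K y, by rw [← Scheme.Hom.comp_apply, ← hsθ i]; rfl⟩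
    · rintro ⟨a, ha⟩
      obtain ⟨w, hw, -⟩ := Scheme.Pullback.exists_preimage_pullback (f := θ) (g := evPt k K S (en i)) z a ha.symm
      exact ⟨(hsP i).isoPullback.inv w, by rw [← Scheme.Hom.comp_apply, IsPullback.isoPullback_inv_fst]; exact hw⟩
  -- the pullbacks to the pieces
  let N := (Scheme.Modules.pullback π'').obj G
  have hN : ∀ i, Nonempty ((Scheme.Modules.pullback (s i)).obj N ≅ W) := fun i => by
    let σ := en i
    let τ : K ≃ₐ[k] K := AlgEquiv.ofBijective (σ.liftNormal K) (Algebra.IsAlgebraic.algHom_bijective _)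
    have hτ : ∀ x : S, τ (x : K) = σ x := σ.liftNormal_commutes K
    have hm : s i ≫ π'' = W4c1astiltbs12.galAct p K τ ≫ π' := by
      refine hY.hom_ext ?_ ?_
      · rw [Category.assoc, hπ''g, reassoc_of% hsg i, Category.assoc, hπg, galAct_proj]
      · rw [Category.assoc, hπ''q, ← Category.assoc, hsθ i, Category.assoc, Category.assoc, hπq,
          reassoc_of% galAct_bcTo p K τ, evPt_right, ← Spec.map_comp]
        exact congrArg (_ ≫ ·) (congrArg Spec.map (CommRingCat.hom_ext (RingHom.ext fun x => (hτ x).symm)))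
    obtain ⟨a⟩ := hinv τ
    exact ⟨(Scheme.Modules.pullbackComp (s i) π'').app G ≪≫ (Scheme.Modules.pullbackCongr hm).app G ≪≫
      ((Scheme.Modules.pullbackComp _ π').app G).symm ≪≫ (Scheme.Modules.pullback _).mapIso φG ≪≫ a⟩
  obtain ⟨μ⟩ := nonempty_push_iso g' s hsg (fun i j hij => Set.disjoint_left.2 fun z h1 h2 =>
      Set.disjoint_left.1 (hdisj _ _ (en.injective.ne hij)) ((hrange i z).1 h1) ((hrange j z).1 h2))
    (fun z => by
      obtain ⟨σ, hσ⟩ := hcov (θ z)
      exact ⟨en.symm σ, (hrange _ z).2 (by rwa [Equiv.apply_symm_apply])⟩) N W hN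
  -- descent
  haveI : Flat (Spec.map (CommRingCat.ofHom (algebraMap k K))) := AlgSp.flat_to_field _
  haveI : Flat (BrSev.proj p K) := MorphismProperty.of_isPullback hX.flip inferInstance
  haveI : Surjective (Spec.map (CommRingCat.ofHom (algebraMap k K))) := ⟨fun y => by
    haveI : Subsingleton (Spec (CommRingCat.of k)) := inferInstanceAs (Subsingleton (PrimeSpectrum k))
    exact ⟨Classical.arbitrary _, Subsingleton.elim _ _⟩⟩
  haveI : Surjective (BrSev.proj p K) := MorphismProperty.of_isPullback hX.flip inferInstance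
  haveI : IsAffineHom (BrSev.proj p K) := MorphismProperty.of_isPullback hX.flip inferInstance
  let M := (Scheme.Modules.pushforward g).obj G
  have hM : Coh.IsCoh M := isCoh_push_finite g hG
  haveI := hM.1
  haveI := FlatBC.isIso_bcMap hBC.flip G
  let iso : BrSev.bcMod p K M ≅ ∐ fun _ : Fin d => W := asIso (AffBC.bcMap hBC.flip G) ≪≫ μ
  have hlf : FlatMod.IsFinLocFree (∐ fun _ : Fin d => W) := OX.isFinLocFree_sigma _ fun _ => hW
  have hK : FlatMod.IsFinLocFree (BrSev.bcMod p K M) := fun x => by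
    obtain ⟨U, r, hx, ⟨b⟩⟩ := hlf x
    exact ⟨U, r, hx, ⟨(Scheme.Modules.restrictFunctor U.ι).mapIso iso ≪≫ b⟩⟩
  exact ⟨M, d, FTDesc.isFinLocFree_of_pullback (BrSev.proj p K) M hK (Euler.isCoh_of_isFinLocFree hK).2,
    Fintype.card_pos_iff.2 ⟨S.val⟩, ⟨iso⟩⟩

/-- An indecomposable Galois invariant class is the type of an indecomposable module. -/
theorem exists_indec_type (W : (BrSev.bc p K).Modules) (hW : FlatMod.IsFinLocFree W) (hWi : Indec W)
    (hinv : ∀ σ : K ≃ₐ[k] K, Nonempty ((Scheme.Modules.pullback (W4c1astiltbs12.galAct p K σ)).obj W ≅ W)) :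
    ∃ (M : X.Modules) (r : ℕ), FlatMod.IsFinLocFree M ∧ Indec M ∧ 0 < r ∧
      Nonempty (BrSev.bcMod p K M ≅ ∐ fun _ : Fin r => W) := by
  haveI : Algebra.IsSeparable k K := IsSepClosure.separable
  obtain ⟨M, d, hM, hd, ⟨iM⟩⟩ := exists_type p K W hW hinv
  letI := overBC p K
  haveI : IsProper ((BrSev.bc p K) ↘ Spec (CommRingCat.of K)) :=
    MorphismProperty.pullback_snd p _ ‹IsProper p›
  haveI := Euler.isNoetherian_of_proper (X := BrSev.bc p K) K
  have hc := Euler.isCoh_of_isFinLocFree hW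
  obtain ⟨m⟩ := nonempty_pow_npow W d
  obtain ⟨l, ⟨el⟩, hl⟩ := exists_isotypical_decomp p K hM hWi hc (iM ≪≫ m)
  match l, el, hl with
  | [], el, _ =>
    exfalso
    have hz := ((Scheme.Modules.pullback (BrSev.proj p K)).map_isZero (IsZero.of_iso isZero_lsum_nil el)).of_iso
      (iM ≪≫ m).symm
    haveI := finite_hom K hc hc
    have := eq_of_npow_iso K hWi (r := d) (s := 0) ⟨hz.iso isZero_lsum_nil⟩
    omega
  | c :: l, el, hl =>
    obtain ⟨hci, hcf, -, t, ht, -, ⟨et⟩⟩ := hl c List.mem_cons_self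
    obtain ⟨m'⟩ := nonempty_pow_npow W t
    exact ⟨c, t, hcf, hci, ht, ⟨et ≪≫ m'.symm⟩⟩

end Groth.Agent.InvDesc21
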