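import Groth.Agent.Lib.ASBun21.Isotypical
import Groth.Agent.Lib.QCoh.Killed
import Mathlib.AlgebraicGeometry.Modules.Sheaf
import Mathlib.CategoryTheory.Limits.Shapes.Biproducts

/-!
# Direct image along a disjoint union of sections
-/

set_option autoImplicit false
set_option backward.isDefEq.respectTransparency false

universe u

open CategoryTheory CategoryTheory.Limits AlgebraicGeometry TopologicalSpace Opposite

noncomputable section

namespace Groth.Agent.InvDesc21

attribute [local instance] Abelian.hasFiniteBiproducts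

variable {P Z : Scheme.{u}} (g : P ⟶ Z) {d : ℕ} (s : Fin d → (Z ⟶ P)) [∀ i, IsOpenImmersion (s i)]
  (hs : ∀ i, s i ≫ g = 𝟙 Z)

include hs in
theorem image_le (i : Fin d) (U : Z.Opens) : s i ''ᵁ U ≤ g ⁻¹ᵁ U := by
  rintro _ ⟨y, hy, rfl⟩
  show g (s i y) ∈ U
  rw [← Scheme.Hom.comp_apply, hs i]
  exact hy

/-- The restriction to a piece. -/
def piece (N : P.Modules) (i : Fin d) :
    (Scheme.Modules.pushforward g).obj N ⟶ (Scheme.Modules.restrictFunctor (s i)).obj N :=
  (Scheme.Modules.pushforward g).map ((Scheme.Modules.restrictAdjunction (s i)).unit.app N) ≫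
    (Scheme.Modules.pushforwardComp (s i) g).hom.app _ ≫
      (Scheme.Modules.pushforwardCongr (hs i)).hom.app _ ≫ (Scheme.Modules.pushforwardId Z).hom.app _

theorem piece_app (N : P.Modules) (i : Fin d) (U : Z.Opens) (t : Γ(N, g ⁻¹ᵁ U)) :
    (piece g s hs N i).app U t = N.presheaf.map (homOfLE (image_le g s hs i U)).op t := by
  simp [piece]
  change N.presheaf.map _ (N.presheaf.map _ t) = _
  rw [← CategoryTheory.comp_apply, ← Functor.map_comp]
  rfl

variable (hdisj : ∀ i j, i ≠ j → Disjoint (Set.range (s i).base) (Set.range (s j).base))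
  (hcov : ∀ z, ∃ i, z ∈ Set.range (s i).base)

include hdisj hcov in
theorem isIso_lift (N : P.Modules) : IsIso (biproduct.lift (piece g s hs N)) := by
  refine Scheme.Modules.Hom.isIso_iff_isIso_app.mpr fun U => (ConcreteCategory.isIso_iff_bijective _).2 ?_
  let W : Fin d → P.Opens := fun i => s i ''ᵁ U
  have hle : ∀ i, W i ⟶ g ⁻¹ᵁ U := fun i => homOfLE (image_le g s hs i U)
  have hcover : g ⁻¹ᵁ U ≤ iSup W := by
    intro z hz
    obtain ⟨i, y, rfl⟩ := hcov z
    refine Opens.mem_iSup.2 ⟨i, y, ?_, rfl⟩
    have h : g (s i y) = y := by rw [← Scheme.Hom.comp_apply, hs i]; rfl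
    exact h ▸ hz
  have hπ : ∀ i t, (biproduct.π (fun i => (Scheme.Modules.restrictFunctor (s i)).obj N) i).app U
      ((biproduct.lift (piece g s hs N)).app U t) = N.presheaf.map (hle i).op t := fun i t => by
    rw [← CategoryTheory.comp_apply, ← Scheme.Modules.Hom.comp_app, biproduct.lift_π]
    exact piece_app g s hs N i U t
  have hext : ∀ x y : Γ(⨁ fun i => (Scheme.Modules.restrictFunctor (s i)).obj N, U),
      (∀ i, (biproduct.π (fun i => (Scheme.Modules.restrictFunctor (s i)).obj N) i).app U x =
        (biproduct.π (fun i => (Scheme.Modules.restrictFunctor (s i)).obj N) i).app U y) → x = y := by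
    intro x y h
    have happ : ∀ (t : Finset (Fin d)) (φ : Fin d → ((⨁ fun i => (Scheme.Modules.restrictFunctor (s i)).obj N) ⟶
        ⨁ fun i => (Scheme.Modules.restrictFunctor (s i)).obj N)) (z : Γ(⨁ fun i => (Scheme.Modules.restrictFunctor (s i)).obj N, U)),
        (∑ i ∈ t, φ i).app U z = ∑ i ∈ t, (φ i).app U z := fun t φ z => by
      induction t using Finset.induction with
      | empty => simp
      | insert j t hj ih => rw [Finset.sum_insert hj, Finset.sum_insert hj, ← ih]; rfl
    have hx : ∀ z, z = ∑ i, (biproduct.ι (fun i => (Scheme.Modules.restrictFunctor (s i)).obj N) i).app U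
        ((biproduct.π (fun i => (Scheme.Modules.restrictFunctor (s i)).obj N) i).app U z) := fun z => by
      have := congrArg (fun φ : (⨁ fun i => (Scheme.Modules.restrictFunctor (s i)).obj N) ⟶ _ => φ.app U z)
        (biproduct.total (f := fun i => (Scheme.Modules.restrictFunctor (s i)).obj N))
      simp only [happ] at this
      exact this.symm
    rw [hx x, hx y]
    exact Finset.sum_congr rfl fun i _ => by rw [h i]
  constructor
  · intro a b hab
    refine TopCat.Sheaf.eq_of_locally_eq' ⟨N.presheaf, N.isSheaf⟩ W _ hle hcover a b fun i => ?_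
    have h := congrArg (fun x => (biproduct.π (fun i => (Scheme.Modules.restrictFunctor (s i)).obj N) i).app U x) hab
    simp only [hπ] at h
    exact h
  · intro x
    let sf : ∀ i, Γ(N, W i) := fun i => (biproduct.π (fun i => (Scheme.Modules.restrictFunctor (s i)).obj N) i).app U x
    obtain ⟨t, ht, -⟩ := TopCat.Sheaf.existsUnique_gluing' ⟨N.presheaf, N.isSheaf⟩ W _ hle hcover sf fun i j => by
      by_cases hij : i = j
      · subst hij; rfl
      · have h0 : ∀ z : Γ(N, W i ⊓ W j), z = 0 := fun z => GrothLib.QCoh.section_eq_zero_of_germ N z fun p hp => by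
          obtain ⟨⟨y, -, hy⟩, ⟨y', -, hy'⟩⟩ := hp
          exact absurd ⟨y', hy'⟩ (Set.disjoint_left.1 (hdisj i j hij) ⟨y, hy⟩)
        exact (h0 _).trans (h0 _).symm
    exact ⟨t, hext _ _ fun i => (hπ i t).trans (ht i)⟩

/-- A constant family of biproduct is a power. -/
theorem nonempty_biproduct_iso {C : Type*} [Category C] [Abelian C] {A : C} {d : ℕ} {F : Fin d → C}
    (e : ∀ i, F i ≅ A) : Nonempty ((⨁ F) ≅ ∐ fun _ : Fin d => A) :=
  ⟨biproduct.mapIso e ≪≫ biproduct.isoCoproduct _⟩

include hdisj hcov hs in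
theorem nonempty_push_iso (N : P.Modules) (W : Z.Modules)
    (e : ∀ i, Nonempty ((Scheme.Modules.pullback (s i)).obj N ≅ W)) :
    Nonempty ((Scheme.Modules.pushforward g).obj N ≅ ∐ fun _ : Fin d => W) := by
  haveI := isIso_lift g s hs hdisj hcov N
  obtain ⟨φ⟩ := nonempty_biproduct_iso (C := Z.Modules) (A := W)
    (F := fun i => (Scheme.Modules.restrictFunctor (s i)).obj N) fun i =>
      (Scheme.Modules.restrictFunctorIsoPullback (s i)).app N ≪≫ (e i).some
  exact ⟨asIso (biproduct.lift (piece g s hs N)) ≪≫ φ⟩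

end Groth.Agent.InvDesc21
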